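import Mathlib
import Cfsg.Agent.Spor.FC.Up
import Cfsg.Agent.Spor.FC.TCU

/-!
The class of transvections of `U₆(2)` and its double covers.
-/

set_option autoImplicit false
set_option maxRecDepth 100000
set_option exponentiation.threshold 100000

namespace Cfsg.Agent.Spor.FC

open Cfsg.Agent.Spor.TT Subgroup

variable {G U : Type*} [Group G] [Group U] {T : Set U} {X O : Set G} {d : G} {ρ : V6 → G}
  {a b c : U}

theorem Trg.cj (h : Trg T a b c) (hT : ∀ g, ∀ x ∈ T, cj g x ∈ T) (g : U) :
    Trg T (cj g a) (cj g b) (cj g c) :=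
  ⟨⟨hT g a h.ma, hT g b h.mb, hT g c h.mc, fun e => h.ab (cj_inj.1 e), fun e => h.ac (cj_inj.1 e),
    fun e => h.bc (cj_inj.1 e), commute_cj.2 h.cab, commute_cj.2 h.cac, commute_cj.2 h.cbc⟩,
   fun p hp q hq e => h.ne _ (hT g⁻¹ p hp) _ (hT g⁻¹ q hq) (by
    rw [← cj_mul, ← e, ← cj_mul, ← cj_mul, cj_inv_cj])⟩

/-- Seven generating points. -/
def cdU : ℕ → ℕ := getP 12 4095 (nat_lit 0x500140050012056005006)

/-- Distances from the generating points. -/
def covU : ℕ → ℕ := getP 8 255 (nat_lit 0xd3b38100c162e00072f3c00000000083c092c400a1b4b100b4a382000000008382d1a400c3a472009481e000000000a300000064000000840000008474947400b0a4b100b4a2a100a293940000000093d092c500a1b3c300b5d1a200000000b38294b300a4b59200c1a1840000000093000000940000009400000074a484840094c19100b39284008294d000000000b39482a30091b5a400b1b47200000000a392b0d500c1b5a200c5b1a300000000a3000000a400000084000000a49494a40000000055000000750000007565856500000000850000008500000065957575000000009500000075000000958585950095954500956585005595850000000006c3b5a100c592b50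092a5a50000000093d6a2b400b1b4d500a4c3a200000000b392a5c500b5a4a200b4b19500000000a300000094000000a400000084a4948400c6b4a100c4a2d10092c3b400000000b3c272b60081b6d300a6d682000000009382b4c300c4b69200c6a1b400000000a30000009400000084000000a48494a400a4b5b100b392b400a2c4a500000000b394a2b300b1c6a400c1b4a200000000b3b2b5c500c5b6a200c3b1c500000000c300000094000000a4000000b4a4b4a40000000085000000950000007595857500000000850000007500000095758595000000008500000095000000a595a59500957595008585a5008595650000000085a5d39100c592950082a5d600000000a3a592b500a1a4b500b4c38200000000b3a2c5c400b3a4a200b4b1b500000000b30000009400000094000000a4a4a49400b5a4b100b492c500a2c39400000000b3a5b2c500c1c3b500c6c5b200000000b3a2a4b300b4b6a200c1b1b400000000b300000094000000b4000000a4a4a4a400b4d1b100c392b400a2c4c400000000a3b492c300a1a6b400b6c4a200000000a382c6d600b6b68200c691d30000000083000000a40000008400000084947494000000008500000085000000959595850000000085000000a500000095959595000000009500000075000000758565850075a59500957575008585a5000000008500000046000000660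000006656765600000000760000007600000056866666000000008600000066000000867676860086863600865676004686760000000016000000760000008600000066867666000000007600000066000000866676860000000076000000860000009686968600866686007676960076865600000000760000007600000076000000868686760000000076000000960000008686868600000000860000006600000066765676006696860086666600767696000000007686862600964686003696860000000026865676006666860066764600000000665686760076565600666686000000006600000046000000560000004656563600d3c69100d682c60082b6b60000000083c4a2c400b1b4d100b4c39200000000a3a2b6c400c3b49200b4a1a600000000a300000084000000a40000008494947400b5b4b100c4a2c500a2b3a400000000b3d682a50091a5d30095c59200000000a382b4c300b5a59200b5a1a400000000b3000000a4000000940000009494a4a400b4c1b100b3a2a400a2b4b600000000b394a2c300b1b5a400c5b49200000000b3b2c6c500c5a5b200b5c1c300000000b3000000a400000094000000b4a4a4a40000000075000000950000007585856500000000950000008500000085859595000000009500000085000000a595959500a58585009575a5007595750000000085a3c5b100d592b000a2c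1b500000000a3d08294009194c10084b39200000000b372b1b400a3948200a491b500000000a3000000a4000000a400000084a4949400e0948100a482d10072c3a400000000a3c072f30081d3b300e0c162000000008382b4a300c4c09200b1a1b400000000830000008400000064000000847474940084c1a100b382940092a4b5000000009394a29300b1b0a400a1b4a20000000093a2b5d100c5d09200c3a1b300000000b300000074000000940000009484a4840000000095000000950000007595858500000000750000005500000075656585000000006500000085000000857595750085559500459595008595650000000006c5c3b100c5b2b500a2c5b600000000c3a5a2c400b1a4b500b4b39200000000b3a2c1b400b394a200a4b1c600000000b3000000b400000094000000a4a4a4b40095b4b100c592a500a2b5a400000000a3a592a500a1c3b500b5c5920000000093a2a4c300b4d6a200d5b1b400000000b30000008400000094000000a484a49400b4c6a100c382b40092c4b600000000a3b492c300a1c6b400d1c4a200000000b382a6d600b6c27200d381b60000000093000000a40000009400000084a4849400000000a500000085000000959595a50000000075000000850000009575958500000000950000008500000075957585006585950095957500a585850000000085000000660000008600000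06676765600000000860000007600000076768686000000008600000076000000968686860096767600866696006686660000000076000000860000008600000066867676000000006600000046000000665656760000000056000000760000007666866600764686003686860076865600000000160000009600000076000000868686960000000066000000760000008666867600000000860000007600000066866676005676860086866600967676000000007686666600765686005676560000000066863696002686860086964600000000264666760076865600866666000000006600000046000000460000005636565600b6d38100d682a60072b6c20000000093b692c400a1b4c600b4c38200000000a3a2d1c400c3b49200b4a1c600000000b300000084000000a40000009494a48400c6a4b100b4a2c100a2b39400000000b3b6a2c500b1c5c300b5c5b200000000c392b4b300c4a5a200b5b1a400000000b3000000a4000000b400000094b4a4a400b4d5b100c3a2a400a2b4d600000000b3a4a2b500b195b400a5c59200000000a392b5c500a5a59200b5a1c30000000093000000a400000084000000949484a4000000007500000095000000858595750000000095000000a500000085a59595000000009500000075000000858575950085a58500956585007595950000000085c3b5c100c5b2c600b2c5a50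0000000b3b6a2b400b1b4c100a4b3a200000000b392c5b400c394a200a4b1b500000000b3000000b4000000a400000094a4a4a400a6b4a100c4a2b60092c3b400000000a3b682b60091d3c600c6d682000000008392b4c300c4c4a200d1b1b400000000a30000008400000084000000a474949400a4b5a100c382b40092b5a500000000b3a4a2b300b1b5b400c5c4a200000000b39295c500a5d68200d391a500000000a300000094000000a400000094a494a400000000a500000095000000859595950000000075000000750000009565858500000000850000009500000085958595007575950085a58500a595750000000085b3c3a100d1a2b50092c5d000000000b3b592a400a184c10094b3820000000093a2a1b4009394a200a4b1b000000000930000009400000074000000948484a400b5a49100b472b10082a39400000000a3b5a2c100b1a3c500b0d59200000000a39284b30094d08200c1919400000000b300000084000000a4000000a494a49400b4b1a100a382b40092c4c00000000083a472c30081e09400d1a48200000000a362e0c100f3c07200b381d3000000008300000084000000840000006494747400000000850000006500000085757595000000007500000095000000958595850000000075000000750000005585656500658595009585550095459500000000060000006600000086000000767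686660000000086000000960000007696868600000000860000006600000076766686007696760086567600668686000000007600000096000000860000007686868600000000660000006600000086567676000000007600000086000000768676860066668600769676009686660000000076000000760000005600000076666686000000006600000086000000867686760000000066000000660000004676565600567686008676460086368600000000166686660076466600567686000000006656567600668666008676560000000066468696009686360086268600000000260000005600000046000000465636560000000033000000500000005141604200000000600000006100000043705051000000007100000053000000706061740073702400734463003471630000000005000000620000007100000053716052000000006100000052000000735261700000000063000000730000008273817000735474006264810064724400000000640000006200000063000000717071620000000063000000830000007371737000000000700000005100000052604261005484720074545400646483000000006275751500853574002583740000000015724565005555750055653500000000554575650065454500555572000000005500000035000000450000003545452500000000520000007000000051616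042000000007100000062000000636270710000000073000000630000008370717300836464007254840054745400000000620000007000000071000000537460610000000051000000330000005042416000000000430000006000000061517050006334710024737000637344000000000500000082000000630000007370738100000000530000006200000071527160000000007300000061000000527052610044647200747354008162640000000064725555006545750045654500000000557425830015757500748535000000001535556500657245007555550000000055000000350000003500000045254545000000005200000073000000616170520000000073000000820000006381707300000000710000005300000062605271006481620072446400547473000000006400000083000000730000006373707100000000510000005200000070426160000000006300000071000000627162700054547400648364008472540000000062000000610000004300000060505170000000005300000070000000716174600000000050000000510000003360424100446373007163340070247300000000055575550065355500456572000000005545456500557255007565450000000055357485008374250075157500000000150000004500000035000000354525450063630200712270001281700000000004703054004144610044532300000000433261540053343300444170000000004300000024000000340000002434341400704441005432610033533400000000437012810002636300707122000000000423445300547030006141440000000043000000240000002400000034143434004461410053234400305470000000004334335300417044006154320000000043227071008170120063026300000000040000003400000024000000243414340000000013000000230000001321200300000000130000001300000023032120000000002300000013000000132003210001110000000111001100010000000000)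

theorem covOKU : covOK cdU 7 covU = true := by decide +kernel

theorem iso_cdU : ∀ x < 7, iso (cdU x) = true := by decide +kernel

theorem ufr_subset (h : UFr ρ X) {K : Subgroup G} (hK : ∀ x < 7, ρ (dec (cdU x)) ∈ K) : X ⊆ K :=
  fun y hy => by
  obtain ⟨v, hv, rfl⟩ := h.surj y hy
  refine cover_ind covOKU (P := fun v => ρ v ∈ K) hK (fun x hx v hv k => ?_)
    (fun c hc v hv k => by rwa [h.smul hv hc]) hv
  rw [← h.cj_eq _ _ (iso_iff.1 (iso_cdU x hx)).2 hv]
  exact mul_mem (mul_mem (hK x hx) k) (inv_mem (hK x hx))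

/-- The product of the points of `l` fixes the generating points. -/
noncomputable def trivU (l : List ℕ) : Bool :=
  band (allL l iso) (allLt 7 fun x => Nat.beq (traceP sysU.T l (cdU x)) (cdU x))

/-- The points of `U₆(2)`. -/
noncomputable def ρ0 (v : V6) : PU6 := QuotientGroup.mk' _ (tvS v)

theorem ufr0 : UFr ρ0 tvP := ufr_tvS.map qiso_tvP

theorem sq0 : ∀ x ∈ tvP, x * x = 1 := fun _ => fis_tvP.set.mul_self

theorem mem0 {u : ℕ} (hu : iso u = true) : ρ0 (dec u) ∈ tvP := ufr0.mem _ (iso_iff.1 hu).2

theorem eq_one_of_triv {l : List ℕ} (hl : trivU l = true) : evalW (fun u => ρ0 (dec u)) l = 1 := by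
  rw [trivU, band_iff, allL_iff, allLt_iff] at hl
  have h1 := ufr_subset ufr0 (K := centralizer {evalW (fun u => ρ0 (dec u)) l}) fun x hx => by
    have := ((ufr0.real sq0).word hl.1 (iso_cdU x hx)).2
    rw [(nbeq_iff _ _).1 (hl.2 x hx)] at this
    exact mem_cen.2 (cj_eq_self_iff.1 this)
  rw [← mem_bot, ← fis_tvP.center_eq_bot, mem_center_iff]
  exact fun g => (mem_cen.1 ((closure_le _).2 h1 (fis_tvP.group.mem_closure g))).symm.eq

theorem cl3_code {p q r : ℕ} (h : allL [(p, q), (p, r), (q, r)] (fun e => band (Nat.beq (fm e.2 e.1) 0)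
    (band (iso e.1) (band (iso e.2) (allLt 4 fun c => !Nat.beq e.2 (sm c e.1))))) = true) :
    Cl3 tvP (ρ0 (dec p)) (ρ0 (dec q)) (ρ0 (dec r)) := by
  have k : ∀ e ∈ [(p, q), (p, r), (q, r)], ρ0 (dec e.1) ∈ tvP ∧ ρ0 (dec e.2) ∈ tvP ∧
      ρ0 (dec e.1) ≠ ρ0 (dec e.2) ∧ Commute (ρ0 (dec e.1)) (ρ0 (dec e.2)) := fun e he => by
    obtain ⟨h1, h2⟩ := (band_iff _ _).1 ((allL_iff _ _).1 h e he)
    have h3 := (band_iff _ _).1 h2
    have h4 := ((band_iff _ _).1 h3.2).1
    exact ⟨mem0 h3.1, mem0 h4, ufr0.ne_code h2, (ufr0.commute_code h3.1 h4).2 ((nbeq_iff _ _).1 h1)⟩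
  have k1 := k _ (by simp : (p, q) ∈ _)
  have k2 := k _ (by simp : (p, r) ∈ _)
  have k3 := k _ (by simp : (q, r) ∈ _)
  exact ⟨k1.1, k1.2.1, k2.2.1, k1.2.2.1, k2.2.2.1, k3.2.2.1, k1.2.2.2, k2.2.2.2, k3.2.2.2⟩

theorem two0 : ∀ a ∈ tvP, ∀ b ∈ tvP, a ≠ b → Commute a b → a * b ∉ tvP := fun a ha b hb n c => by
  obtain ⟨u, hu, rfl⟩ := ufr0.surj a ha
  obtain ⟨v, hv, rfl⟩ := ufr0.surj b hb
  exact (ufr0.prod_not_mem sq0 fis_tvP.set (fun x _ => fis_tvP.cj_mem x) hu hv
    (B6_comm.1 ((ufr0.commute_iff hu hv).1 c)) n).1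

theorem three0 {a b c : PU6} (k : Cl3 tvP a b c) : a * b * c ∉ tvP := by
  obtain ⟨u, hu, rfl⟩ := ufr0.surj a k.ma
  obtain ⟨v, hv, rfl⟩ := ufr0.surj b k.mb
  obtain ⟨w, hw, rfl⟩ := ufr0.surj c k.mc
  rw [mul_assoc]
  exact (ufr0.prod_not_mem sq0 fis_tvP.set (fun x _ => fis_tvP.cj_mem x) hu hv
    (B6_comm.1 ((ufr0.commute_iff hu hv).1 k.cab)) k.ab).2 w hw ((ufr0.commute_iff hu hw).1 k.cac)
    ((ufr0.commute_iff hv hw).1 k.cbc) k.ac k.bc

theorem cl0 : Cl3 tvP (ρ0 (dec 5)) (ρ0 (dec 80)) (ρ0 (dec 1280)) := cl3_code (by decide +kernel)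

/-- The vectors of the standard plane. -/
noncomputable def plane : List ℕ := (List.range 64).map fun i =>
  Nat.xor (sm (i % 4) 5) (Nat.xor (sm (i / 4 % 4) 80) (sm (i / 16) 1280))

theorem trg0 : Trg tvP (ρ0 (dec 5)) (ρ0 (dec 80)) (ρ0 (dec 1280)) := ⟨cl0, fun p hp q hq e => by
  have s := fis_tvP.set
  have hl : CL tvP [ρ0 (dec 5), ρ0 (dec 80), ρ0 (dec 1280)] :=
    ⟨by simp [cl0.ab, cl0.ac, cl0.bc], by simp [cl0.ma, cl0.mb, cl0.mc], by
      simp [cl0.cab, cl0.cac, cl0.cbc, cl0.cab.symm, cl0.cac.symm, cl0.cbc.symm]⟩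
  have e' : [ρ0 (dec 5), ρ0 (dec 80), ρ0 (dec 1280)].prod = p * q := by simpa [mul_assoc] using e
  have c : Commute p q := (s.commute_iff_sq hp hq).2 (by rw [← e', pow_two, hl.mul_self s])
  have n : q ≠ p := fun k => two0 _ cl0.ma _ cl0.mb cl0.ab cl0.cab (by
    rw [k, s.mul_self hp, mul_eq_one_iff_eq_inv, s.inv_eq cl0.mc] at e
    exact e ▸ cl0.mc)
  have k1 : allRange 0 4096 (fun w => bor (!band (Nat.beq (fm w 5) 0) (band (Nat.beq (fm w 80) 0)
      (Nat.beq (fm w 1280) 0))) (memL plane w)) = true := by decide +kernel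
  have k2 : allL plane (fun u => allL plane fun v => Nat.beq (fm u v) 0) = true := by decide +kernel
  have k3 : ∀ y ∈ tvP, Commute p y → Commute q y → ∃ w ∈ plane, iso w = true ∧ ρ0 (dec w) = y :=
    fun y hy c1 c2 => by
    have c3 := hl.commute_of_prod fis_tvP.isTT (by simp) hy (e' ▸ c1.mul_left c2)
    obtain ⟨v, hv, rfl⟩ := ufr0.surj y hy
    obtain ⟨w, hw, rfl⟩ := exists_iso hv
    have c4 : ∀ u ∈ [5, 80, 1280], fm w u = 0 := fun u hu =>
      (ufr0.commute_code (by revert u; decide +kernel) hw).1
        (c3 _ (List.mem_map_of_mem (f := fun u => ρ0 (dec u)) hu))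
    have := allRange_zero k1 w (iso_iff.1 hw).1
    rw [c4 5 (by simp), c4 80 (by simp), c4 1280 (by simp), bor_iff] at this
    exact ⟨w, memL_iff.1 (this.resolve_left (by decide)), hw, rfl⟩
  obtain ⟨g, rfl, rfl⟩ := fis_tvP.exists_cj_pair cl0.ma ⟨cl0.mb, cl0.ab.symm, cl0.cab⟩ hp ⟨hq, n, c⟩
  have k : Cl3 tvP (ρ0 (dec 5)) (ρ0 (dec 80)) (ρ0 (dec 1536)) := cl3_code (by decide +kernel)
  obtain ⟨u, hu, iu, e1⟩ := k3 _ (fis_tvP.cj_mem g _ cl0.mc) (commute_cj.2 cl0.cac)
    (commute_cj.2 cl0.cbc)
  obtain ⟨v, hv, iv, e2⟩ := k3 _ (fis_tvP.cj_mem g _ k.mc) (commute_cj.2 k.cac) (commute_cj.2 k.cbc)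
  have := (ufr0.commute_code iu iv).2 ((nbeq_iff _ _).1
    ((allL_iff _ _).1 ((allL_iff _ _).1 k2 v hv) u hu))
  rw [e1, e2, commute_cj, ufr0.commute_code (by decide +kernel) (by decide +kernel)] at this
  exact absurd this (by decide +kernel)⟩

/-- Words that move a point to the third point of the standard triangle. -/
noncomputable def mvU (w : ℕ) : Bool :=
  !allL [[], [ln 1280 w 1], [ln 1280 w 2], [ln 1280 w 3], [2304, ln 1536 w 1], [2304, ln 1536 w 2],
    [2304, ln 1536 w 3]] fun l => !band (allL l iso) (band (Nat.beq (traceP sysU.T l 5) 5)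
      (band (Nat.beq (traceP sysU.T l 80) 80) (Nat.beq (traceP sysU.T l (nrm w)) 1280)))

theorem Trg.exists_std {a b c : PU6} (h : Trg tvP a b c) :
    ∃ g, TT.cj g a = ρ0 (dec 5) ∧ TT.cj g b = ρ0 (dec 80) ∧ TT.cj g c = ρ0 (dec 1280) := by
  obtain ⟨g, e1, e2⟩ := fis_tvP.exists_cj_pair h.ma ⟨h.mb, h.ab.symm, h.cab⟩ cl0.ma
    ⟨cl0.mb, cl0.ab.symm, cl0.cab⟩
  have t := h.cj fis_tvP.cj_mem g
  rw [e1, e2] at t
  obtain ⟨v, hv, e3⟩ := ufr0.surj _ t.mc
  obtain ⟨w, hw, rfl⟩ := exists_iso hv
  rw [← e3] at t
  have k : allRange 0 4096 (fun w => bor (!band (iso w) (band (Nat.beq (fm w 5) 0)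
      (Nat.beq (fm w 80) 0))) (bor (memL [5, 80, 85, 90, 95] (nrm w)) (mvU w))) = true := by
    decide +kernel
  have k1 := allRange_zero k w (iso_iff.1 hw).1
  rw [hw, (ufr0.commute_code (by decide +kernel) hw).1 t.cac,
    (ufr0.commute_code (by decide +kernel) hw).1 t.cbc, bor_iff, bor_iff, memL_iff] at k1
  rw [← ufr0.nrm hw] at t e3
  have k2 : ∀ r p q, trivU [5, 80, r, q, p] = true → nrm w ≠ r := fun r p q l e => by
    have := eq_one_of_triv l
    have l1 := (allL_iff _ _).1 ((band_iff _ _).1 l).1
    have hp := mem0 (l1 p (by simp))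
    have hq := mem0 (l1 q (by simp))
    refine t.ne _ hp _ hq (e ▸ mul_inv_eq_one.1 ?_)
    rw [mul_inv_rev, fis_tvP.set.inv_eq hp, fis_tvP.set.inv_eq hq]
    simpa [mul_assoc] using this
  rcases k1.resolve_left (by decide) with k1 | k1
  · simp only [List.mem_cons, List.not_mem_nil, or_false] at k1
    rcases k1 with k1 | k1 | k1 | k1 | k1
    · exact absurd (by rw [k1]) t.ac
    · exact absurd (by rw [k1]) t.bc
    · exact absurd k1 (k2 85 90 95 (by decide +kernel))
    · exact absurd k1 (k2 90 85 95 (by decide +kernel))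
    · exact absurd k1 (k2 95 85 90 (by decide +kernel))
  · rw [mvU, Bool.not_eq_true', ← Bool.not_eq_true, allL_iff] at k1
    simp only [not_forall, Bool.not_eq_true', Bool.not_eq_false, band_iff, allL_iff, nbeq_iff] at k1
    obtain ⟨l, -, l1, l2, l3, l4⟩ := k1
    have R := fun i hi => ((ufr0.real sq0).word (i := i) l1 hi).2
    refine ⟨evalW (fun u => ρ0 (dec u)) l * g, ?_, ?_, ?_⟩
    · rw [← cj_cj, e1]; exact (R 5 (by decide +kernel)).trans (by rw [l2])
    · rw [← cj_cj, e2]; exact (R 80 (by decide +kernel)).trans (by rw [l3])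
    · rw [← cj_cj, ← e3]; exact (R _ (iso_nrm hw)).trans (by rw [l4])

theorem bs_tvP : Bs tvP := by
  refine ⟨fis_tvP, fis_tvP.center_eq_bot, two0, fun _ _ _ => three0, fun t ht => ?_,
    fun a b c a' b' c' t t' => ?_, fun a ha b hb n c => ?_, ?_, ?_⟩
  · obtain ⟨m, hm, k⟩ := cp_tvP ht
    obtain ⟨l, h1, rfl, rfl⟩ := k.cl
    exact ⟨l, hm, ⟨h1.mem, h1.comm⟩, rfl⟩
  · obtain ⟨g, e1, e2, e3⟩ := t.exists_std
    obtain ⟨g', f1, f2, f3⟩ := t'.exists_std
    exact ⟨g'⁻¹ * g, by rw [← cj_cj, e1, ← f1, cj_inv_cj], by rw [← cj_cj, e2, ← f2, cj_inv_cj],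
      by rw [← cj_cj, e3, ← f3, cj_inv_cj]⟩
  · obtain ⟨g, rfl, rfl⟩ := fis_tvP.exists_cj_pair cl0.ma ⟨cl0.mb, cl0.ab.symm, cl0.cab⟩ ha
      ⟨hb, n.symm, c⟩
    exact ⟨_, trg0.cj fis_tvP.cj_mem g⟩
  · have k : Cl3 tvP (ρ0 (dec 5)) (ρ0 (dec 1280)) (ρ0 (dec 1285)) := cl3_code (by decide +kernel)
    have t := trg0.cj fis_tvP.cj_mem (evalW (fun u => ρ0 (dec u)) [3589, 2304])
    have R : ∀ i, iso i = true → TT.cj (evalW (fun u => ρ0 (dec u)) [3589, 2304]) (ρ0 (dec i)) =
        ρ0 (dec (traceP sysU.T [3589, 2304] i)) := fun i hi =>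
      ((ufr0.real sq0).word (by decide +kernel) hi).2
    rw [R 5 (by decide +kernel), R 80 (by decide +kernel), R 1280 (by decide +kernel),
      show traceP sysU.T [3589, 2304] 5 = 5 by decide +kernel,
      show traceP sysU.T [3589, 2304] 80 = 80 by decide +kernel,
      show traceP sysU.T [3589, 2304] 1280 = 1285 by decide +kernel] at t
    exact ⟨_, _, _, _, trg0, t, k.bc, k.cbc⟩
  · refine ⟨[5, 80, 85, 90, 95].map fun u => ρ0 (dec u), by decide, ⟨?_, ?_⟩,
      eq_one_of_triv (by decide +kernel), _, cl0.mc, ?_⟩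
    · exact List.forall_mem_map.2 fun u hu => mem0 (by revert u; decide +kernel)
    · exact List.forall_mem_map.2 fun u hu => List.forall_mem_map.2 fun v hv =>
        (ufr0.commute_code (by revert u; decide +kernel) (by revert v; decide +kernel)).2
          (by revert u v; decide +kernel)
    · exact List.forall_mem_map.2 fun u hu => ⟨ufr0.ne_code (by revert u; decide +kernel),
        (ufr0.commute_code (by decide +kernel) (by revert u; decide +kernel)).2
          (by revert u; decide +kernel)⟩

theorem Cov.ufr {π : G → PU6} (h : Cov d π tvP O) (hρ : ∀ v, Iso v → ρ v ∈ O ∧ π (ρ v) = ρ0 v) :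
    UFr ρ O := by
  refine ⟨fun v hv => (hρ v hv).1, fun a ha => ?_, fun u v hu hv => ?_, fun u v hu hv => ?_⟩
  · obtain ⟨v, hv, e⟩ := ufr0.surj _ (h.mem ha)
    exact ⟨v, hv, (h.inj (hρ v hv).1 ha).1 ((hρ v hv).2.trans e)⟩
  · rw [← h.inj (hρ u hu).1 (hρ v hv).1, (hρ u hu).2, (hρ v hv).2, ufr0.eq_iff u v hu hv]
  · refine h.cj_eq (h.comm _ (hρ u hu).1) (hρ v hv).1 (hρ _ (hv.tv hu.2)).1 ?_
    rw [(hρ u hu).2, (hρ v hv).2, (hρ _ (hv.tv hu.2)).2, ufr0.cj_eq u v hu hv]

theorem Cov.evalW {π : G → PU6} (h : Cov d π tvP O) (hρ : ∀ v, Iso v → ρ v ∈ O ∧ π (ρ v) = ρ0 v)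
    {l : List ℕ} (hl : allL l iso = true) : Commute d (evalW (fun u => ρ (dec u)) l) ∧
      π (evalW (fun u => ρ (dec u)) l) = evalW (fun u => ρ0 (dec u)) l := by
  rw [allL_iff] at hl
  induction l with
  | nil => exact ⟨Commute.one_right d, h.one⟩
  | cons u l ih =>
    obtain ⟨k1, k2⟩ := ih fun x hx => hl x (by simp [hx])
    have k := hρ _ (iso_iff.1 (hl u (by simp))).2
    rw [evalW_cons, evalW_cons, h.mul _ _ (h.comm _ k.1) k1, k.2, k2]
    exact ⟨(h.comm _ k.1).mul_right k1, rfl⟩

theorem Cov.triv {π : G → PU6} (h : Cov d π tvP O) (hρ : ∀ v, Iso v → ρ v ∈ O ∧ π (ρ v) = ρ0 v)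
    {l : List ℕ} (hl : trivU l = true) :
    Spor.evalW (fun u => ρ (dec u)) l = 1 ∨ Spor.evalW (fun u => ρ (dec u)) l = d :=
  let ⟨k1, k2⟩ := h.evalW hρ ((band_iff _ _).1 hl).1
  (h.ker _ k1).1 (k2.trans (eq_one_of_triv hl))

/-- Transvections by the generating points. -/
noncomputable def TU (x i : ℕ) : ℕ := nrm (tv (cdU x) i)

/-- A product of conjugates of letters. -/
noncomputable def cwL (l : List (List ℕ × ℕ)) : List ℕ := List.rec [] (fun e _ ih => appL (cw e) ih) l

theorem eval_cwL (h : UFr ρ X) (hs : ∀ x ∈ X, x * x = 1) {l : List (List ℕ × ℕ)} {r : List ℕ}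
    (hl : band (allL l fun e => lettersLt 7 (e.2 :: e.1))
      (beqL (l.map fun e => traceP TU e.1 (cdU e.2)) r) = true) :
    evalW (fun x => ρ (dec (cdU x))) (cwL l) = evalW (fun u => ρ (dec u)) r := by
  rw [band_iff, allL_iff] at hl
  obtain rfl := eq_of_beqL hl.2
  replace hl := hl.1
  have hR : PSys.Real ⟨iso, fun x => blt x 7, TU, cdU, [], nrm⟩ (fun u => ρ (dec u)) :=
    ⟨fun x i hx hi => (h.real hs).act _ i (iso_cdU x ((blt_iff _ _).1 hx)) hi,
      fun x hx => (h.real hs).sq _ (iso_cdU x ((blt_iff _ _).1 hx)), fun _ hu => iso_nrm hu⟩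
  induction l with
  | nil => rfl
  | cons e l ih =>
    have he := hl e (by simp)
    rw [lettersLt_iff, List.forall_mem_cons] at he
    rw [List.map_cons, evalW_cons, ← ih fun x hx => hl x (by simp [hx]),
      show cwL (e :: l) = appL (cw e) (cwL l) from rfl, evalW_appL, cw,
      evalW_conjW (inv := id) (m := 7) (fun x hx => hs _ (h.mem _ (iso_iff.1 (iso_cdU x hx)).2))
      ((lettersLt_iff _ _).2 he.2), evalW_cons, evalW_nil, mul_one]
    exact congrArg (· * _) (hR.word (w := e.1) (fun x hx => (blt_iff _ _).2 (he.2 x hx))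
      (iso_cdU _ he.1)).2

/-- The relators of the coset enumeration. -/
noncomputable def WU : List (List ℕ) :=
  [cwL [([1], 0), ([], 3), ([1], 0), ([], 3), ([1], 0), ([], 3)],
   cwL [([1], 0), ([], 4), ([3, 4, 1, 0, 3, 2], 1), ([2], 1), ([0, 3, 4, 1, 3, 2, 1], 0)],
   cwL [([2, 5, 1, 0, 3, 2], 1), ([4, 5, 3, 4, 1, 3], 0)],
   powW 10 [0, 1, 2, 3, 4, 5, 6],
   cwL [([], 1), ([], 4), ([], 6), ([2, 5, 6, 4, 5, 2], 1), ([3, 4, 1, 2, 5, 6, 3, 4, 5, 2], 1),
     ([0, 3, 4, 1, 2, 5, 6, 0, 3, 4, 5, 2, 1], 0)],
   cwL [([], 1), ([], 4), ([], 6), ([0, 3, 4, 1, 2, 5, 6, 1, 3, 4, 5, 2], 1),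
     ([2, 5, 6, 3, 0, 1, 3, 4, 5], 2), ([3, 4, 1, 2, 5, 6, 0, 1, 3, 4, 5], 2)]]

/-- The commutation labels of the generating points. -/
def labU (x y : ℕ) : ℕ := cond (Nat.beq (fm (cdU y) (cdU x)) 0) 2 3

theorem card_le_U {g : ℕ → G} (h : CLab X g 7 labU) (hW : ∀ w ∈ WU, evalW g w = 1) :
    Nat.card (genLt g 7) ≤ 9196830720 := by
  have j : ∀ k ≤ 7, ∀ inv : ℕ → ℕ, allLt k (fun x => Nat.beq (inv x) x) = true →
      ∀ x < k, g x * g (inv x) = 1 := fun k hk inv hc x hx => by
    rw [(nbeq_iff _ _).1 ((allLt_iff _ _).1 hc x hx)]; exact h.sq x (hx.trans_le hk)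
  have u0 : Nat.card (genLt g 0) ≠ 0 ∧ Nat.card (genLt g 0) ≤ 1 := by rw [card_genLt_zero]; decide
  have u1 := card_le_of_relIndex (genLt_mono g (by decide)) (fu1_bound (j 1 (by decide) _
    (by decide +kernel)) (h.rels hW (by decide +kernel)) (fun _ => mem_genLt g) (leaf_nil_mem _ _)) u0
  have u2 := card_le_of_relIndex (genLt_mono g (by decide)) (fu2_bound (j 2 (by decide) _
    (by decide +kernel)) (h.rels hW (by decide +kernel)) (fun _ => mem_genLt g) (leaf_nil_mem _ _)) u1
  have u3 := card_le_of_relIndex (genLt_mono g (by decide)) (fu3_bound (j 3 (by decide) _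
    (by decide +kernel)) (h.rels hW (by decide +kernel)) (fun _ => mem_genLt g) (leaf_nil_mem _ _)) u2
  have u4 := card_le_of_relIndex (genLt_mono g (by decide)) (fu4_bound (j 4 (by decide) _
    (by decide +kernel)) (h.rels hW (by decide +kernel)) (fun _ => mem_genLt g) (leaf_nil_mem _ _)) u3
  have u5 := card_le_of_relIndex (genLt_mono g (by decide)) (fu5_bound (j 5 (by decide) _
    (by decide +kernel)) (h.rels hW (by decide +kernel)) (fun _ => mem_genLt g) (leaf_nil_mem _ _)) u4
  have u6 := card_le_of_relIndex (genLt_mono g (by decide)) (fu6_bound (j 6 (by decide) _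
    (by decide +kernel)) (h.rels hW (by decide +kernel)) (fun _ => mem_genLt g) (leaf_nil_mem _ _)) u5
  exact (card_le_of_relIndex (genLt_mono g (by decide)) (fu7_bound (j 7 (by decide) _
    (by decide +kernel)) (h.rels hW (by decide +kernel)) (fun _ => mem_genLt g) (leaf_nil_mem _ _)) u6).2

theorem Cov.hex_of_code {π : G → PU6} (h : Cov d π tvP O)
    (hρ : ∀ v, Iso v → ρ v ∈ O ∧ π (ρ v) = ρ0 v) {p q r : ℕ}
    (h1 : trivU [5, 80, 1280, p, q, r] = true) (h2 : Cl3 tvP (ρ0 (dec p)) (ρ0 (dec q)) (ρ0 (dec r)))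
    (h3 : ∀ x ∈ [5, 80, 1280], ∀ y ∈ [p, q, r], band (Nat.beq (fm y x) 0)
      (band (iso x) (band (iso y) (allLt 4 fun c => !Nat.beq y (sm c x)))) = true)
    (hn : ¬ Hex d π tvP O) : Spor.evalW (fun u => ρ (dec u)) [5, 80, 1280, p, q, r] = 1 := by
  refine (h.triv hρ h1).resolve_right fun e => hn ?_
  have l := fun u hu => hρ _ (iso_iff.1 ((allL_iff _ _).1 ((band_iff _ _).1 h1).1 u hu)).2
  have e0 := eq_one_of_triv h1
  simp only [evalW_cons, evalW_nil, mul_one] at e e0
  have s := fis_tvP.set
  have e1 : ρ0 (dec p) * ρ0 (dec q) * ρ0 (dec r) = ρ0 (dec 5) * ρ0 (dec 80) * ρ0 (dec 1280) := by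
    rw [← mul_assoc, ← mul_assoc, ← mul_assoc _ (ρ0 (dec q)), mul_eq_one_iff_inv_eq] at e0
    rw [← e0, mul_inv_rev, mul_inv_rev, s.inv_eq cl0.ma, s.inv_eq cl0.mb, s.inv_eq cl0.mc,
      ← cl0.cab.eq, (cl0.cac.mul_left cl0.cbc).eq]
  refine ⟨_, _, _, _, _, _, ⟨(l 5 (by simp)).1, (l 80 (by simp)).1, (l 1280 (by simp)).1, ?_⟩,
    ⟨(l p (by simp)).1, (l q (by simp)).1, (l r (by simp)).1, ?_⟩, ?_, by simpa [mul_assoc] using e⟩
  · rw [(l 5 (by simp)).2, (l 80 (by simp)).2, (l 1280 (by simp)).2]; exact trg0
  · rw [(l p (by simp)).2, (l q (by simp)).2, (l r (by simp)).2]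
    exact ⟨h2, e1 ▸ trg0.ne⟩
  · have k : ∀ x ∈ [5, 80, 1280].map fun u => ρ (dec u), ∀ y ∈ [p, q, r].map fun u => ρ (dec u),
        π x ≠ π y ∧ Commute (π x) (π y) :=
      List.forall_mem_map.2 fun x hx => List.forall_mem_map.2 fun y hy => by
        obtain ⟨k1, k2⟩ := (band_iff _ _).1 (h3 x hx y hy)
        have k3 := (band_iff _ _).1 k2
        have k4 := ((band_iff _ _).1 k3.2).1
        rw [(hρ _ (iso_iff.1 k3.1).2).2, (hρ _ (iso_iff.1 k4).2).2]
        exact ⟨ufr0.ne_code k2, (ufr0.commute_code k3.1 k4).2 ((nbeq_iff _ _).1 k1)⟩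
    exact k

theorem Cov.hex_aux [Finite G] {π : G → PU6} (h : Cov d π tvP O)
    (hρ : ∀ v, Iso v → ρ v ∈ O ∧ π (ρ v) = ρ0 v)
    (h1 : Spor.evalW (fun u => ρ (dec u)) [7, 80, 87, 89, 94] = 1) : Hex d π tvP O := by
  by_contra hn
  have u := h.ufr hρ
  have hs : ∀ x ∈ O, x * x = 1 := fun _ => h.sq'
  have m : ∀ x, iso x = true → ρ (dec x) ∈ O := fun x hx => u.mem _ (iso_iff.1 hx).2
  have L : CLab O (fun x => ρ (dec (cdU x))) 7 labU := by
    have k : ∀ x < 7, ∀ y < 7, Commute (ρ (dec (cdU x))) (ρ (dec (cdU y))) ↔ labU x y = 2 :=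
      fun x hx y hy => by
        rw [u.commute_code (iso_cdU x hx) (iso_cdU y hy)]; revert x y; decide +kernel
    exact ⟨h.tt.set, fun x hx => m _ (iso_cdU x hx), fun x hx y hy => (k x hx y hy).2,
      fun x hx y hy e c => by rw [(k x hx y hy).1 c] at e; exact absurd e (by decide)⟩
  have := h.card_lt (ufr_subset u (K := genLt (fun x => ρ (dec (cdU x))) 7) fun _ => mem_genLt _)
  rw [card_PU6] at this
  refine absurd (card_le_U L ?_) (not_le.2 this)
  simp only [WU, List.forall_mem_cons]
  refine ⟨?_, ?_, ?_, ?_, ?_, ?_, by simp⟩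
  · rw [eval_cwL u hs (r := [7, 18, 7, 18, 7, 18]) (by decide +kernel)]
    have := h.tt.set.cube (m 7 (by decide +kernel)) (m 18 (by decide +kernel))
      (by rw [u.commute_code (by decide +kernel) (by decide +kernel)]; decide +kernel)
    simpa [pow_three, mul_assoc] using this
  · rw [eval_cwL u hs (r := [7, 80, 87, 89, 94]) (by decide +kernel), h1]
  · rw [eval_cwL u hs (r := [448, 448]) (by decide +kernel)]
    simpa using hs _ (m 448 (by decide +kernel))
  · have e : ∀ k, Spor.evalW (fun x => ρ (dec (cdU x))) (powW k [0, 1, 2, 3, 4, 5, 6]) =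
        Spor.evalW (fun u => ρ (dec u)) (powW k [6, 5, 86, 18, 80, 320, 1280]) := fun k => by
      rw [evalW_powW, evalW_powW]; rfl
    obtain ⟨k1, k2⟩ := h.evalW hρ (l := powW 5 [6, 5, 86, 18, 80, 320, 1280]) (by decide +kernel)
    have := h.lift_sq k1 (by
      rw [k2, evalW_powW, ← pow_add, ← evalW_powW]; exact eq_one_of_triv (by decide +kernel))
    rwa [e, evalW_powW, show 10 = 5 + 5 from rfl, pow_add, ← evalW_powW]
  · rw [eval_cwL u hs (r := [5, 80, 1280, 1375, 1450, 1525]) (by decide +kernel)]
    exact h.hex_of_code hρ (by decide +kernel) (cl3_code (by decide +kernel)) (by decide +kernel) hn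
  · rw [eval_cwL u hs (r := [5, 80, 1280, 1370, 1445, 1535]) (by decide +kernel)]
    exact h.hex_of_code hρ (by decide +kernel) (cl3_code (by decide +kernel)) (by decide +kernel) hn

theorem Hex.of_swap {π : G → U} (h : Cov d π T O) (k : Hex d π T ((d * ·) '' O)) : Hex d π T O := by
  have := k.swap h.swap
  rwa [Set.image_image, show (fun x => d * (d * x)) = id from funext h.mul_self_mul,
    Set.image_id] at this

theorem Cov.hexU [Finite G] {π : G → PU6} (h : Cov d π tvP O) : Hex d π tvP O := by
  have : ∀ v, ∃ a, Iso v → a ∈ O ∧ π a = ρ0 v := fun v => by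
    by_cases hv : Iso v
    · exact let ⟨a, k⟩ := h.lift (ufr0.mem v hv); ⟨a, fun _ => k⟩
    · exact ⟨1, fun k => absurd k hv⟩
  choose ρ hρ using this
  rcases h.triv hρ (l := [7, 80, 87, 89, 94]) (by decide +kernel) with k | k
  · exact h.hex_aux hρ k
  refine Hex.of_swap h (h.swap.hex_aux (ρ := fun v => d * ρ v) (fun v hv =>
    ⟨⟨_, (hρ v hv).1, rfl⟩, by rw [h.d_mul (h.comm _ (hρ v hv).1), (hρ v hv).2]⟩) ?_)
  have := prod_map_mul (d := d) (l := [7, 80, 87, 89, 94].map fun u => ρ (dec u))
    (List.forall_mem_map.2 fun u hu => h.comm _ (hρ _ (iso_iff.1 (by revert u; decide +kernel)).2).1)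
  rw [List.map_map, List.length_map, h.odd_pow (by decide)] at this
  exact this.trans ((congrArg (d * ·) k).trans h.sq)

/-- The data attached to an involution whose centraliser is a non-split double cover of `U₆(2)`. -/
theorem exists_covU [Finite G] (hd : orderOf d = 2) (hq : IsQuasisimple (centralizer ({d} : Set G)))
    [((zpowers d).subgroupOf (centralizer ({d} : Set G))).Normal] (K : Type) [Field K] [Fintype K]
    (hK : Fintype.card K = 4)
    (e : centralizer ({d} : Set G) ⧸ (zpowers d).subgroupOf (centralizer ({d} : Set G)) ≃* PSU 6 K 2) :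
    ∃ (f : PSU 6 K 2 ≃* PU6) (π : G → PU6) (O : Set G), Cov d π tvP O ∧
      ∀ y : centralizer ({d} : Set G), π y = (e.trans f) (QuotientGroup.mk y) := by
  obtain ⟨f⟩ := nonempty_PSU_equiv K hK
  obtain ⟨π, h1, h2⟩ := exists_proj hd hq.1 (e.trans f)
  obtain ⟨O, h3⟩ := h1.exists_cov bs_tvP
  exact ⟨f, π, O, h3, h2⟩

theorem g22_of_cen [Finite G] (hd : orderOf d = 2) (hq : IsQuasisimple (centralizer ({d} : Set G)))
    [((zpowers d).subgroupOf (centralizer ({d} : Set G))).Normal] (K : Type) [Field K] [Fintype K]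
    (hK : Fintype.card K = 4)
    (e : centralizer ({d} : Set G) ⧸ (zpowers d).subgroupOf (centralizer ({d} : Set G)) ≃* PSU 6 K 2)
    (hn : ∃ g : G, g * d * g⁻¹ ∈ centralizer ({d} : Set G) ∧ g * d * g⁻¹ ≠ d) :
    G22 (conjugatesOf d) :=
  let ⟨_, _, _, h, _⟩ := exists_covU hd hq K hK e
  (h.loc h.hexU (Dx_nonempty hn)).g22

end Cfsg.Agent.Spor.FC
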